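import Groth.Prelude.Def_AlgSpOX
import Groth.Agent.L23.Epi

/-!
# Morphisms from an algebraic space to an affine scheme are given by global functions
-/

universe u

open CategoryTheory CategoryTheory.Limits AlgebraicGeometry Opposite AlgSp

set_option autoImplicit false
set_option linter.style.haveILetI false
set_option backward.isDefEq.respectTransparency false
set_option backward.isDefEq.respectTransparency.types false

noncomputable section

namespace Groth.L09.HomAffine

open Groth.L23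

/-- Ring maps to global sections come from maps to an affine scheme. -/
theorem exists_appTop_eq {X T : Scheme.{u}} [IsAffine T] (ψ : Γ(T, ⊤) →+* Γ(X, ⊤)) :
    ∃ g : X ⟶ T, ∀ r, g.appTop r = ψ r := by
  refine ⟨X.toSpecΓ ≫ Spec.map (CommRingCat.ofHom ψ) ≫ inv T.toSpecΓ, fun r => ?_⟩
  set g := X.toSpecΓ ≫ Spec.map (CommRingCat.ofHom ψ) ≫ inv T.toSpecΓ with hg
  have h : g.appTop = CommRingCat.ofHom ψ := by
    have h1 : g ≫ T.toSpecΓ = X.toSpecΓ ≫ Spec.map (CommRingCat.ofHom ψ) := by simp [hg]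
    clear_value g
    clear hg
    have h2 := congrArg Scheme.Hom.appTop h1
    rw [Scheme.Hom.comp_appTop, Scheme.Hom.comp_appTop, Scheme.toSpecΓ_appTop, Scheme.toSpecΓ_appTop,
      Scheme.ΓSpecIso_naturality] at h2
    exact (cancel_epi _).1 h2
  rw [h]; rfl

variable {S : Scheme.{u}}

/-- The component of a compatible family of functions. -/
def comp {X : Sp S} {T : Over S} (φ : Γ(T.left, ⊤) →+* ↥(gsectEt (OEt X))) (E : EtOver X) :
    Γ(T.left, ⊤) →+* Γ(E.obj.left.left, ⊤) :=
  (ULift.ringEquiv : ULift.{u + 1} Γ(E.obj.left.left, ⊤) ≃+* Γ(E.obj.left.left, ⊤)).toRingHom.comp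
    ((limit.π (OEt X).obj (op E)).hom.comp φ)

theorem comp_apply {X : Sp S} {T : Over S} (φ : Γ(T.left, ⊤) →+* ↥(gsectEt (OEt X))) (E : EtOver X)
    (r : Γ(T.left, ⊤)) : comp φ E r = ((limit.π (OEt X).obj (op E)) (φ r)).down := rfl

theorem appTop_comp_comp {X : Sp S} {T : Over S} (φ : Γ(T.left, ⊤) →+* ↥(gsectEt (OEt X))) {E E' : EtOver X}
    (g : E ⟶ E') (r : Γ(T.left, ⊤)) : g.hom.left.left.appTop.hom (comp φ E' r) = comp φ E r := by
  rw [comp_apply, comp_apply]
  have h := congrArg (fun q => q (φ r)) (limit.w (OEt X).obj g.op)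
  exact congrArg ULift.down h

theorem existsUnique_hom (hS : IsTerminal S) {X : Sp S} (hX : IsAlgSpace X)
    (T : Over S) [IsAffine T.left] (φ : Γ(T.left, ⊤) →+* ↥(gsectEt (OEt X))) :
    ∃! f : X ⟶ (yon S).obj T, ∀ (E : EtOver X) (r : Γ(T.left, ⊤)),
      ((limit.π (OEt X).obj (op E)) (φ r)).down = ((yon S).preimage (E.obj.hom ≫ f)).left.appTop r := by
  obtain ⟨U, p, hpe, hps⟩ := hX.atlas
  haveI : Epi p := epi_of_repWith p hpe hps
  let E₀ : EtOver X := EtOver.mk p hpe
  have hmk : ∀ E : EtOver X, ∃ k : E.obj.left ⟶ T, ∀ r, k.left.appTop r = comp φ E r := fun E => by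
    obtain ⟨g, hg⟩ := exists_appTop_eq (comp φ E)
    exact ⟨Over.homMk g (hS.hom_ext _ _), hg⟩
  choose k hk using hmk
  have huniq : ∀ (E : EtOver X) (l : E.obj.left ⟶ T), (∀ r, l.left.appTop r = comp φ E r) → l = k E :=
    fun E l hl => Over.OverMorphism.ext (ext_of_isAffine (CommRingCat.hom_ext (RingHom.ext fun r =>
      (hl r).trans (hk E r).symm)))
  have hnat : ∀ {E E' : EtOver X} (g : E ⟶ E'), g.hom.left ≫ k E' = k E := fun {E E'} g =>
    huniq E _ fun r => by
      rw [← appTop_comp_comp φ g r, ← hk E' r]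
      rfl
  obtain ⟨R, s, t, sq⟩ : ∃ (R : Over S) (s t : R ⟶ U), IsPullback ((yon S).map s) ((yon S).map t) p p := by
    obtain ⟨s, hs⟩ := (yon S).map_surjective (hpe.rep.fst p)
    exact ⟨_, s, hpe.rep.snd p, hs ▸ hpe.rep.isPullback p⟩
  have hse : Etale t.left := hpe.property _ _ _ sq
  have hce : RepWith @Etale ((yon S).map t ≫ p) :=
    (inferInstance : (RepWith (S := S) @Etale).IsStableUnderComposition).comp_mem _ _ (repWith_map hse) hpe
  let E₁ : EtOver X := EtOver.mk ((yon S).map t ≫ p) hce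
  have hw : (yon S).map s ≫ (yon S).map (k E₀) = (yon S).map t ≫ (yon S).map (k E₀) := by
    rw [← Functor.map_comp, ← Functor.map_comp]
    have h1 := hnat (EtOver.homMk (E := E₁) (E' := E₀) s sq.w)
    have h2 := hnat (EtOver.homMk (E := E₁) (E' := E₀) t rfl)
    exact congrArg (yon S).map (h1.trans h2.symm)
  obtain ⟨hc⟩ := nonempty_isColimit_cofork p sq
  let f : X ⟶ (yon S).obj T := hc.desc (Cofork.ofπ ((yon S).map (k E₀)) hw)
  have hf : p ≫ f = (yon S).map (k E₀) := hc.fac (Cofork.ofπ _ hw) WalkingParallelPair.one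
  refine ⟨f, fun E r => ?_, fun f' hf' => ?_⟩
  · obtain ⟨W, a, b, sqW⟩ : ∃ (W : Over S) (a : W ⟶ U) (b : W ⟶ E.obj.left),
        IsPullback ((yon S).map a) ((yon S).map b) p E.obj.hom := by
      obtain ⟨a, ha⟩ := (yon S).map_surjective (hpe.rep.fst E.obj.hom)
      exact ⟨_, a, hpe.rep.snd E.obj.hom, ha ▸ hpe.rep.isPullback E.obj.hom⟩
    haveI hbe : Etale b.left := hpe.property _ _ _ sqW
    haveI hbs : Surjective b.left := hps.property _ _ _ sqW
    haveI : Epi b.left := Flat.epi_of_flat_of_surjective b.left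
    have hbc : RepWith @Etale ((yon S).map b ≫ E.obj.hom) :=
      (inferInstance : (RepWith (S := S) @Etale).IsStableUnderComposition).comp_mem _ _ (repWith_map hbe) E.property
    let E₂ : EtOver X := EtOver.mk ((yon S).map b ≫ E.obj.hom) hbc
    have h1 : a ≫ k E₀ = k E₂ := hnat (EtOver.homMk (E := E₂) (E' := E₀) a sqW.w)
    have h2 : b ≫ k E = k E₂ := hnat (EtOver.homMk (E := E₂) (E' := E) b rfl)
    have h3 : (yon S).preimage (E.obj.hom ≫ f) = k E := by
      haveI : Epi b := (Over.forget S).epi_of_epi_map ‹Epi b.left›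
      rw [← cancel_epi b, h2, ← h1]
      apply (yon S).map_injective
      rw [Functor.map_comp, Functor.map_preimage, Functor.map_comp, ← hf, ← Category.assoc, ← sqW.w,
        Category.assoc]
    rw [h3, hk]; rfl
  · have h : (yon S).preimage (p ≫ f') = k E₀ := huniq E₀ _ fun r => (hf' E₀ r).symm
    rw [← cancel_epi p, hf, ← h, Functor.map_preimage]

end Groth.L09.HomAffine
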